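import Mathlib
import Groth.Agent.CAlgCompl.Basic

/-!
A local ring with finitely generated maximal ideal in which finitely generated ideals are closed is
Noetherian.
-/

namespace Groth.Agent.CAlgResExt

open IsLocalRing

universe u

variable {B : Type u} [CommRing B] [IsLocalRing B]

theorem isNoetherianRing_of_closed (hm : (maximalIdeal B).FG)
    (hcl : ∀ I : Ideal B, I.FG → ∀ x, (∀ n, x ∈ I ⊔ maximalIdeal B ^ n) → x ∈ I) :
    IsNoetherianRing B := by
  classical
  haveI : IsNoetherianRing (B ⧸ maximalIdeal B) :=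
    inferInstanceAs (IsNoetherianRing (ResidueField B))
  let C := AdicCompletion (maximalIdeal B) B
  haveI : IsNoetherianRing C := CAlgCompl.isNoetherianRing_adicCompletion_of_fg _ hm
  refine (isNoetherianRing_iff_ideal_fg B).2 fun I => ?_
  obtain ⟨s, hsI, hs⟩ := (Submodule.fg_span_iff_fg_span_finset_subset (algebraMap B C '' (I : Set B))).1
    (IsNoetherian.noetherian (Ideal.span (algebraMap B C '' (I : Set B)) : Ideal C))
  obtain ⟨t, htI, rfl⟩ := Finset.subset_set_image_iff.1 hsI
  refine ⟨t, le_antisymm (Submodule.span_le.2 htI) fun x hx => hcl _ ⟨t, rfl⟩ x fun n => ?_⟩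
  have h1 : algebraMap B C x ∈ (Ideal.span (t : Set B)).map (algebraMap B C) := by
    rw [Ideal.map_span, ← Finset.coe_image, Ideal.span, ← hs]
    exact Submodule.subset_span ⟨x, hx, rfl⟩
  have h2 := Ideal.mem_map_of_mem (AdicCompletion.evalₐ (maximalIdeal B) n).toRingHom h1
  rw [Ideal.map_map, AlgHom.toRingHom_eq_coe, AlgHom.comp_algebraMap, ← Ideal.mem_comap] at h2
  have h3 : AdicCompletion.evalₐ (maximalIdeal B) n (algebraMap B C x) = Ideal.Quotient.mk _ x :=
    (AdicCompletion.evalₐ (maximalIdeal B) n).commutes x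
  rw [Ideal.mem_comap] at h2
  have h4 : Ideal.Quotient.mk (maximalIdeal B ^ n) x ∈
      (Ideal.span (t : Set B)).map (Ideal.Quotient.mk (maximalIdeal B ^ n)) := by
    rw [← h3]; exact h2
  rw [← Ideal.mem_comap, Ideal.comap_map_of_surjective _ Ideal.Quotient.mk_surjective,
    ← RingHom.ker_eq_comap_bot, Ideal.mk_ker] at h4
  exact h4

end Groth.Agent.CAlgResExt
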