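import Mathlib

/-!
Triangular systems of monic equations: the quotient ring is flat and integral over the base.
-/

namespace Groth.Agent.CAlgResExt

open MvPolynomial

universe u

variable {R : Type u} [CommRing R] {σ : Type u}

/-- A triangular system: one monic equation per variable, with coefficients in smaller variables. -/
structure Triangular (R : Type u) [CommRing R] (σ : Type u) [LinearOrder σ] where
  G : σ → Polynomial (MvPolynomial σ R)
  monic : ∀ a, (G a).Monic
  pos : ∀ a, 0 < (G a).natDegree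
  lower : ∀ a i, (G a).coeff i ∈ supported R {b | b < a}

namespace Triangular

variable [LinearOrder σ] (T : Triangular R σ)

/-- The equation attached to `a`. -/
noncomputable def eqn (a : σ) : MvPolynomial σ R := (T.G a).eval (X a)

/-- The ideal of all equations. -/
noncomputable def ideal : Ideal (MvPolynomial σ R) := Ideal.span (Set.range T.eqn)

/-- The quotient ring. -/
abbrev Quot : Type u := MvPolynomial σ R ⧸ T.ideal

/-- Equations in `F`, variables outside `F` killed. -/
noncomputable def idealOn (F : Set σ) : Ideal (MvPolynomial σ R) :=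
  Ideal.span (T.eqn '' F ∪ X '' Fᶜ)

/-- The equations of `F` only involve variables of `F`. -/
def Closed (F : Set σ) : Prop := ∀ a ∈ F, ∀ i, (T.G a).coeff i ∈ supported R F

theorem eqn_mem_idealOn {F : Set σ} {a : σ} (ha : a ∈ F) : T.eqn a ∈ T.idealOn F :=
  Ideal.subset_span (Or.inl ⟨a, ha, rfl⟩)

theorem X_mem_idealOn {F : Set σ} {b : σ} (hb : b ∉ F) : X b ∈ T.idealOn F :=
  Ideal.subset_span (Or.inr ⟨b, hb, rfl⟩)

open Classical in
/-- Setting the variables outside `F` to zero. -/
noncomputable def proj (F : Set σ) : MvPolynomial σ R →ₐ[R] MvPolynomial σ R :=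
  aeval fun b => if b ∈ F then X b else 0

theorem proj_X_of_mem {F : Set σ} {b : σ} (h : b ∈ F) : proj (R := R) F (X b) = X b := by
  simp [proj, h]

theorem proj_X_of_notMem {F : Set σ} {b : σ} (h : b ∉ F) : proj (R := R) F (X b) = 0 := by
  simp [proj, h]

theorem proj_of_supported {F : Set σ} {p : MvPolynomial σ R} (hp : p ∈ supported R F) :
    proj (R := R) F p = p := by
  rw [supported] at hp
  induction hp using Algebra.adjoin_induction with
  | mem x hx => obtain ⟨b, hb, rfl⟩ := hx; exact proj_X_of_mem hb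
  | algebraMap r => exact (proj (R := R) F).commutes r
  | add x y _ _ hx hy => rw [map_add, hx, hy]
  | mul x y _ _ hx hy => rw [map_mul, hx, hy]

theorem eqn_mem_supported {F : Set σ} (hF : T.Closed F) {a : σ} (ha : a ∈ F) :
    T.eqn a ∈ supported R F := by
  rw [eqn, Polynomial.eval_eq_sum_range]
  exact Subalgebra.sum_mem _ fun i _ => Subalgebra.mul_mem _ (hF a ha i)
    (Subalgebra.pow_mem _ (by rw [supported]; exact Algebra.subset_adjoin ⟨a, ha, rfl⟩) i)

/-- The quotient on a set of variables. -/
abbrev QuotOn (F : Set σ) : Type u := MvPolynomial σ R ⧸ T.idealOn F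

theorem idealOn_le_comap {F F' : Set σ} (hF : T.Closed F) (h : F ⊆ F') :
    T.idealOn F ≤ (T.idealOn F').comap (proj F) := by
  rw [idealOn, Ideal.span_le]
  rintro _ (⟨a, ha, rfl⟩ | ⟨b, hb, rfl⟩)
  · rw [SetLike.mem_coe, Ideal.mem_comap, proj_of_supported (T.eqn_mem_supported hF ha)]
    exact T.eqn_mem_idealOn (h ha)
  · rw [SetLike.mem_coe, Ideal.mem_comap, proj_X_of_notMem hb]
    exact zero_mem _

/-- The transition map for `F ⊆ F'`. -/
noncomputable def trans {F F' : Set σ} (hF : T.Closed F) (h : F ⊆ F') :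
    T.QuotOn F →ₐ[R] T.QuotOn F' :=
  Ideal.quotientMapₐ _ (proj F) (T.idealOn_le_comap hF h)

theorem trans_mk {F F' : Set σ} (hF : T.Closed F) (h : F ⊆ F') (p : MvPolynomial σ R) :
    T.trans hF h (Ideal.Quotient.mk _ p) = Ideal.Quotient.mk _ (proj F p) := rfl

theorem mk_proj {F : Set σ} (p : MvPolynomial σ R) :
    Ideal.Quotient.mk (T.idealOn F) (proj F p) = Ideal.Quotient.mk (T.idealOn F) p := by
  induction p using MvPolynomial.induction_on with
  | C r => simp [proj]
  | add p q hp hq => rw [map_add, map_add, hp, hq, map_add]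
  | mul_X p b hp =>
    rw [map_mul, map_mul, hp, map_mul]
    congr 1
    by_cases hb : b ∈ F
    · rw [proj_X_of_mem hb]
    · rw [proj_X_of_notMem hb, map_zero]
      exact (Ideal.Quotient.eq_zero_iff_mem.2 (T.X_mem_idealOn hb)).symm

theorem trans_trans {F F' F'' : Set σ} (hF : T.Closed F) (hF' : T.Closed F') (h : F ⊆ F') (h' : F' ⊆ F'')
    (x : T.QuotOn F) : T.trans hF' h' (T.trans hF h x) = T.trans hF (h.trans h') x := by
  obtain ⟨p, rfl⟩ := Ideal.Quotient.mk_surjective x
  rw [trans_mk, trans_mk, trans_mk]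
  congr 1
  have : proj (R := R) F' (proj F p) = proj F p := by
    rw [← AlgHom.comp_apply]
    congr 1
    refine MvPolynomial.algHom_ext fun b => ?_
    rw [AlgHom.comp_apply]
    by_cases hb : b ∈ F
    · rw [proj_X_of_mem hb, proj_X_of_mem (h hb)]
    · rw [proj_X_of_notMem hb, map_zero]
  rw [this]

theorem trans_self {F : Set σ} (hF : T.Closed F) (x : T.QuotOn F) : T.trans hF subset_rfl x = x := by
  obtain ⟨p, rfl⟩ := Ideal.Quotient.mk_surjective x
  rw [trans_mk, mk_proj]

theorem closed_empty : T.Closed ∅ := fun a ha => absurd ha (Set.notMem_empty a)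

/-- Adding one variable gives a free faithfully flat extension. -/
theorem step {F : Set σ} (hF : T.Closed F) {a : σ} (ha : a ∉ F)
    (hG : ∀ i, (T.G a).coeff i ∈ supported R F) [Nontrivial (T.QuotOn F)] :
    Nontrivial (T.QuotOn (insert a F)) ∧ (T.trans hF (Set.subset_insert a F)).toRingHom.Finite ∧
      (T.trans hF (Set.subset_insert a F)).toRingHom.FaithfullyFlat := by
  classical
  let q := (Ideal.Quotient.mkₐ R (T.idealOn F))
  let g : Polynomial (T.QuotOn F) := (T.G a).map q.toRingHom
  have hg : g.Monic := (T.monic a).map _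
  have hdeg : 0 < g.natDegree := by rw [(T.monic a).natDegree_map]; exact T.pos a
  let Φ : MvPolynomial σ R →ₐ[R] AdjoinRoot g :=
    aeval fun b => if b = a then AdjoinRoot.root g else AdjoinRoot.of g (q (X b))
  have hΦF : ∀ p ∈ supported R F, Φ p = AdjoinRoot.of g (q p) := by
    intro p hp
    rw [supported] at hp
    induction hp using Algebra.adjoin_induction with
    | mem x hx =>
      obtain ⟨b, hb, rfl⟩ := hx
      have hba : b ≠ a := fun h => ha (h ▸ hb)
      simp [Φ, hba]
    | algebraMap r =>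
      rw [AlgHom.commutes, AlgHom.commutes]
      rfl
    | add x y _ _ hx hy => rw [map_add, hx, hy, map_add, map_add]
    | mul x y _ _ hx hy => rw [map_mul, hx, hy, map_mul, map_mul]
  have hΦJ : ∀ p ∈ T.idealOn (insert a F), Φ p = 0 := by
    suffices T.idealOn (insert a F) ≤ RingHom.ker Φ from this
    rw [idealOn, Ideal.span_le]
    rintro _ (⟨b, hb, rfl⟩ | ⟨b, hb, rfl⟩) <;> rw [SetLike.mem_coe, RingHom.mem_ker]
    · rcases hb with rfl | hb
      · rw [eqn, Polynomial.eval_eq_sum_range, map_sum]
        simp only [map_mul, map_pow, hΦF _ (hG _)]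
        have : Φ (X b) = AdjoinRoot.root g := by simp [Φ]
        rw [this]
        calc _ = ((g.map (AdjoinRoot.of g)).eval (AdjoinRoot.root g)) := by
              rw [Polynomial.eval_map, Polynomial.eval₂_eq_sum_range']
              · exact Finset.sum_congr rfl fun i _ => by simp [g]
              · exact Nat.lt_succ_of_le Polynomial.natDegree_map_le
          _ = 0 := by rw [Polynomial.eval_map]; exact AdjoinRoot.eval₂_root g
      · rw [hΦF _ (T.eqn_mem_supported hF hb),
          show q (T.eqn b) = 0 from Ideal.Quotient.eq_zero_iff_mem.2 (T.eqn_mem_idealOn hb),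
          map_zero]
    · rw [Set.mem_compl_iff, Set.mem_insert_iff, not_or] at hb
      have : q (X b) = 0 := Ideal.Quotient.eq_zero_iff_mem.2 (T.X_mem_idealOn hb.2)
      simp [Φ, hb.1, this]
  let t := T.trans hF (Set.subset_insert a F)
  have ht : g.eval₂ t.toRingHom (Ideal.Quotient.mk _ (X a)) = 0 := by
    rw [Polynomial.eval₂_map]
    have h1 : ∀ i, t (q ((T.G a).coeff i)) = Ideal.Quotient.mk _ ((T.G a).coeff i) := fun i => by
      show T.trans hF _ (Ideal.Quotient.mk _ _) = _
      rw [trans_mk, proj_of_supported (hG i)]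
    rw [Polynomial.eval₂_eq_sum_range]
    calc _ = Ideal.Quotient.mk (T.idealOn (insert a F)) (T.eqn a) := by
          rw [eqn, Polynomial.eval_eq_sum_range, map_sum]
          exact Finset.sum_congr rfl fun i _ => by rw [map_mul, map_pow, ← h1]; rfl
      _ = 0 := Ideal.Quotient.eq_zero_iff_mem.2 (T.eqn_mem_idealOn (Set.mem_insert a F))
  let Ψ : AdjoinRoot g →+* T.QuotOn (insert a F) := AdjoinRoot.lift t.toRingHom _ ht
  let Φ' : T.QuotOn (insert a F) →+* AdjoinRoot g := Ideal.Quotient.lift _ Φ.toRingHom hΦJ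
  have h2 : ∀ p, Ψ (Φ p) = Ideal.Quotient.mk _ p := by
    intro p
    induction p using MvPolynomial.induction_on with
    | C r =>
      rw [← MvPolynomial.algebraMap_eq, AlgHom.commutes]
      show Ψ (AdjoinRoot.of g (algebraMap R (T.QuotOn F) r)) = _
      rw [AdjoinRoot.lift_of]
      exact t.commutes r
    | add p p' hp hp' => rw [map_add, map_add, hp, hp', map_add]
    | mul_X p b hp =>
      rw [map_mul, map_mul, hp, map_mul]
      congr 1
      by_cases hba : b = a
      · subst hba
        simp [Φ, Ψ]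
      · have : Φ (X b) = AdjoinRoot.of g (q (X b)) := by simp [Φ, hba]
        rw [this, AdjoinRoot.lift_of]
        show T.trans hF _ (Ideal.Quotient.mk _ _) = _
        rw [trans_mk]
        by_cases hb : b ∈ F
        · rw [proj_X_of_mem hb]
        · rw [proj_X_of_notMem hb, map_zero]
          exact (Ideal.Quotient.eq_zero_iff_mem.2 (T.X_mem_idealOn (fun h => h.elim hba hb))).symm
  have h3 : ∀ z, Φ' (Ψ z) = z := by
    intro z
    have h5 : (Φ'.comp Ψ) = RingHom.id _ := AdjoinRoot.ringHom_ext
      (RingHom.ext fun x => by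
        obtain ⟨p, rfl⟩ := Ideal.Quotient.mk_surjective x
        show Φ' (Ψ (AdjoinRoot.of g _)) = AdjoinRoot.of g _
        rw [AdjoinRoot.lift_of]
        show Φ' (T.trans hF _ (Ideal.Quotient.mk _ p)) = _
        rw [trans_mk, Ideal.Quotient.lift_mk]
        have hp : ∀ p, Φ (proj (R := R) F p) = AdjoinRoot.of g (q p) := fun p => by
          rw [hΦF _ ?_]
          · exact congrArg _ (T.mk_proj p)
          · induction p using MvPolynomial.induction_on with
            | C r => simp [proj]; exact (supported R F).algebraMap_mem r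
            | add p p' hp hp' => rw [map_add]; exact Subalgebra.add_mem _ hp hp'
            | mul_X p b hp =>
              rw [map_mul]
              refine Subalgebra.mul_mem _ hp ?_
              by_cases hb : b ∈ F
              · rw [proj_X_of_mem hb]; exact Algebra.subset_adjoin ⟨b, hb, rfl⟩
              · rw [proj_X_of_notMem hb]; exact Subalgebra.zero_mem _
        exact hp p)
      (by simp [Φ', Ψ, Φ])
    exact congrFun (congrArg DFunLike.coe h5) z
  have hΨ : Function.Bijective Ψ := ⟨fun x y h => by rw [← h3 x, h, h3], fun y => by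
    obtain ⟨p, rfl⟩ := Ideal.Quotient.mk_surjective y
    exact ⟨Φ p, h2 p⟩⟩
  letI : Algebra (T.QuotOn F) (T.QuotOn (insert a F)) := t.toRingHom.toAlgebra
  let e : AdjoinRoot g ≃ₐ[T.QuotOn F] T.QuotOn (insert a F) :=
    AlgEquiv.ofBijective { Ψ with commutes' := fun x => AdjoinRoot.lift_of ht } hΨ
  haveI : Module.Free (T.QuotOn F) (AdjoinRoot g) := Module.Free.of_basis (AdjoinRoot.powerBasis' hg).basis
  haveI : Module.Finite (T.QuotOn F) (AdjoinRoot g) := Module.Finite.of_basis (AdjoinRoot.powerBasis' hg).basis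
  haveI : Nontrivial (AdjoinRoot g) := nontrivial_of_ne _ _
    ((AdjoinRoot.powerBasis' hg).basis.ne_zero ⟨0, hdeg⟩)
  haveI : Nontrivial (T.QuotOn (insert a F)) := e.toEquiv.nontrivial_congr.1 inferInstance
  haveI : Module.Free (T.QuotOn F) (T.QuotOn (insert a F)) := Module.Free.of_equiv e.toLinearEquiv
  haveI : Module.Finite (T.QuotOn F) (T.QuotOn (insert a F)) := Module.Finite.equiv e.toLinearEquiv
  refine ⟨inferInstance, inferInstanceAs (Module.Finite (T.QuotOn F) (T.QuotOn (insert a F))), ?_⟩
  exact (inferInstance : Module.FaithfullyFlat (T.QuotOn F) (T.QuotOn (insert a F)))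

/-- The base: no variables. -/
theorem bijective_algebraMap_empty : Function.Bijective (algebraMap R (T.QuotOn ∅)) := by
  have hJ : ∀ p ∈ T.idealOn ∅, (aeval (fun _ : σ => (0 : R))) p = 0 := by
    suffices T.idealOn ∅ ≤ RingHom.ker (aeval (fun _ : σ => (0 : R))) from this
    rw [idealOn, Ideal.span_le]
    rintro _ (⟨a, ha, rfl⟩ | ⟨b, -, rfl⟩)
    · exact absurd ha (Set.notMem_empty a)
    · simp
  let ε : T.QuotOn ∅ →+* R := Ideal.Quotient.lift _ (aeval (fun _ : σ => (0 : R))).toRingHom hJ
  refine ⟨fun x y h => ?_, fun z => ?_⟩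
  · have : ∀ x, ε (algebraMap R (T.QuotOn ∅) x) = x := fun x => by
      show ε (Ideal.Quotient.mk _ (C x)) = x
      simp [ε]
    rw [← this x, h, this y]
  · obtain ⟨p, rfl⟩ := Ideal.Quotient.mk_surjective z
    induction p using MvPolynomial.induction_on with
    | C r => exact ⟨r, rfl⟩
    | add p q hp hq =>
      obtain ⟨a, ha⟩ := hp
      obtain ⟨b, hb⟩ := hq
      exact ⟨a + b, by rw [map_add, ha, hb, map_add]⟩
    | mul_X p b _ =>
      exact ⟨0, by
        rw [map_zero, map_mul, Ideal.Quotient.eq_zero_iff_mem.2 (T.X_mem_idealOn (Set.notMem_empty b)),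
          mul_zero]⟩

open Classical in
theorem exists_closed_finite [WellFoundedLT σ] (S : Finset σ) :
    ∃ F : Finset σ, S ⊆ F ∧ T.Closed (↑F : Set σ) := by
  have key : ∀ a : σ, ∃ F : Finset σ, a ∈ F ∧ T.Closed (↑F : Set σ) := by
    intro a
    induction a using WellFoundedLT.induction with
    | ind a ih =>
      let D := (T.G a).support.biUnion fun i => ((T.G a).coeff i).vars
      choose Fb hbF hFb using ih
      have hD : ∀ b ∈ D, b < a := fun b hb => by
        obtain ⟨i, -, hi⟩ := Finset.mem_biUnion.1 hb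
        exact mem_supported.1 (T.lower a i) hi
      refine ⟨insert a (D.attach.biUnion fun b => Fb b.1 (hD b.1 b.2)), Finset.mem_insert_self _ _, ?_⟩
      intro c hc i
      rcases Finset.mem_insert.1 hc with rfl | hc
      · rw [mem_supported]
        intro b hb
        have hbD : b ∈ D := by
          refine Finset.mem_biUnion.2 ⟨i, Polynomial.mem_support_iff.2 fun h => ?_, hb⟩
          rw [h] at hb
          simp at hb
        exact Finset.mem_insert_of_mem (Finset.mem_biUnion.2 ⟨⟨b, hbD⟩, Finset.mem_attach _ _, hbF b _⟩)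
      · obtain ⟨b, -, hcb⟩ := Finset.mem_biUnion.1 hc
        refine supported_mono ?_ (hFb b.1 _ c hcb i)
        exact fun x hx => Finset.mem_insert_of_mem (Finset.mem_biUnion.2 ⟨b, Finset.mem_attach _ _, hx⟩)
  choose Fa ha hFa using key
  refine ⟨S.biUnion Fa, fun a h => Finset.mem_biUnion.2 ⟨a, h, ha a⟩, fun c hc i => ?_⟩
  obtain ⟨a, has, hca⟩ := Finset.mem_biUnion.1 hc
  exact supported_mono (fun x hx => Finset.mem_biUnion.2 ⟨a, has, hx⟩) (hFa a c hca i)

/-- Transition maps between finite stages are finite and faithfully flat. -/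
theorem trans_spec {F F' : Set σ} (hF : T.Closed F) (hF' : T.Closed F') (h : F ⊆ F')
    (hfin : (F' \ F).Finite) [Nontrivial (T.QuotOn F)] :
    Nontrivial (T.QuotOn F') ∧ (T.trans hF h).toRingHom.Finite ∧
      (T.trans hF h).toRingHom.FaithfullyFlat := by
  classical
  obtain ⟨D, hD⟩ := hfin.exists_finset_coe
  induction D using Finset.induction_on_max generalizing F' with
  | empty =>
    obtain rfl : F' = F := le_antisymm (fun x hx => by
      by_contra h'
      have : x ∈ (↑(∅ : Finset σ) : Set σ) := hD ▸ ⟨hx, h'⟩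
      simp at this) h
    have : (T.trans hF h).toRingHom = RingHom.id _ := RingHom.ext fun x => T.trans_self hF x
    rw [this]
    exact ⟨inferInstance, RingHom.Finite.id _, RingHom.FaithfullyFlat.of_bijective Function.bijective_id⟩
  | insert a D hmax ih =>
    have haD : a ∈ F' \ F := by rw [← hD]; simp
    have hclosed : T.Closed (F' \ {a}) := by
      intro c hc i
      have hsub := hF' c hc.1 i
      rw [mem_supported] at hsub ⊢
      intro b hb
      refine ⟨hsub hb, fun hba => ?_⟩
      obtain rfl : b = a := hba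
      have hlow := mem_supported.1 (T.lower c i) hb
      by_cases hcF : c ∈ F
      · exact haD.2 (mem_supported.1 (hF c hcF i) hb)
      · have : c ∈ (↑(insert b D) : Set σ) := hD ▸ ⟨hc.1, hcF⟩
        rcases Finset.mem_insert.1 this with hcb | hcD
        · exact hc.2 hcb
        · exact lt_asymm hlow (hmax c hcD)
    have hsub : F ⊆ F' \ {a} := fun x hx => ⟨h hx, fun hxa => haD.2 (hxa ▸ hx)⟩
    have hD' : (↑D : Set σ) = (F' \ {a}) \ F := by
      have haD' : a ∉ D := fun h' => lt_irrefl a (hmax a h')
      ext x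
      constructor
      · intro hx
        have : x ∈ F' \ F := hD ▸ Finset.mem_insert_of_mem hx
        exact ⟨⟨this.1, fun hxa => haD' (hxa ▸ hx)⟩, this.2⟩
      · rintro ⟨⟨h1, h2⟩, h3⟩
        have : x ∈ (↑(insert a D) : Set σ) := hD ▸ ⟨h1, h3⟩
        exact (Finset.mem_insert.1 this).resolve_left h2
    obtain ⟨hnt, hfin', hff'⟩ := ih hclosed hsub ((Finset.finite_toSet D).subset hD'.ge) hD'
    haveI := hnt
    have hins : insert a (F' \ {a}) = F' := Set.insert_sdiff_self_of_mem haD.1 |>.trans rfl
    have hG : ∀ i, (T.G a).coeff i ∈ supported R (F' \ {a}) := fun i => by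
      have h1 := hF' a haD.1 i
      rw [mem_supported] at h1 ⊢
      exact fun b hb => ⟨h1 hb, fun hba => lt_irrefl a ((hba : b = a) ▸ mem_supported.1 (T.lower a i) hb)⟩
    obtain ⟨g1, g2, g3⟩ := T.step hclosed (fun h' => h'.2 rfl) hG
    revert g1 g2 g3
    generalize Set.subset_insert a (F' \ {a}) = h'
    revert h'
    rw [hins]
    intro h' g1 g2 g3
    have hcomp : (T.trans hF h).toRingHom = (T.trans hclosed h').toRingHom.comp (T.trans hF hsub).toRingHom :=
      RingHom.ext fun x => (T.trans_trans hF hclosed hsub h' x).symm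
    rw [hcomp]
    exact ⟨g1, g2.comp hfin', RingHom.FaithfullyFlat.stableUnderComposition _ _ hff' g3⟩

theorem finite_flat_quotOn [Nontrivial R] {F : Finset σ} (hF : T.Closed (↑F : Set σ)) :
    Nontrivial (T.QuotOn ↑F) ∧ Module.Finite R (T.QuotOn ↑F) ∧ Module.Flat R (T.QuotOn ↑F) := by
  haveI : Nontrivial (T.QuotOn ∅) :=
    (RingHom.injective_iff_ker_eq_bot _).2 ((RingHom.injective_iff_ker_eq_bot _).1 T.bijective_algebraMap_empty.1)
      |>.nontrivial
  obtain ⟨h1, h2, h3⟩ := T.trans_spec T.closed_empty hF (Set.empty_subset _) (by simp)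
  have hcomp : algebraMap R (T.QuotOn ↑F) =
      (T.trans T.closed_empty (Set.empty_subset _)).toRingHom.comp (algebraMap R (T.QuotOn ∅)) :=
    RingHom.ext fun r => ((T.trans T.closed_empty (Set.empty_subset _)).commutes r).symm
  refine ⟨h1, RingHom.finite_algebraMap.1 ?_, RingHom.flat_algebraMap_iff.1 ?_⟩
  · rw [hcomp]
    exact h2.comp (RingHom.Finite.of_surjective _ T.bijective_algebraMap_empty.2)
  · rw [hcomp]
    exact (RingHom.FaithfullyFlat.of_bijective T.bijective_algebraMap_empty).flat.comp h3.flat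

theorem idealOn_le_comap_ideal {F : Set σ} (hF : T.Closed F) :
    T.idealOn F ≤ T.ideal.comap (proj F) := by
  rw [idealOn, Ideal.span_le]
  rintro _ (⟨a, ha, rfl⟩ | ⟨b, hb, rfl⟩)
  · rw [SetLike.mem_coe, Ideal.mem_comap, proj_of_supported (T.eqn_mem_supported hF ha)]
    exact Ideal.subset_span ⟨a, rfl⟩
  · rw [SetLike.mem_coe, Ideal.mem_comap, proj_X_of_notMem hb]
    exact zero_mem _

/-- The map from a stage to the quotient. -/
noncomputable def toQuot {F : Set σ} (hF : T.Closed F) : T.QuotOn F →ₐ[R] T.Quot :=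
  Ideal.quotientMapₐ _ (proj F) (T.idealOn_le_comap_ideal hF)

theorem toQuot_mk {F : Set σ} (hF : T.Closed F) {p : MvPolynomial σ R} (hp : p ∈ supported R F) :
    T.toQuot hF (Ideal.Quotient.mk _ p) = Ideal.Quotient.mk _ p := by
  show Ideal.Quotient.mk _ (proj F p) = _
  rw [proj_of_supported hp]

variable [WellFoundedLT σ]

theorem exists_stage_of_mem_ideal {p : MvPolynomial σ R} (hp : p ∈ T.ideal) (S : Finset σ) :
    ∃ (F : Finset σ), S ⊆ F ∧ T.Closed (↑F : Set σ) ∧ p ∈ supported R (↑F : Set σ) ∧
      ∀ (F' : Set σ), ↑F ⊆ F' → T.Closed F' → p ∈ T.idealOn F' := by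
  classical
  obtain ⟨c, hc⟩ := Finsupp.mem_span_range_iff_exists_finsupp.1 hp
  obtain ⟨F, hSF, hF⟩ := T.exists_closed_finite (S ∪ p.vars ∪ c.support)
  refine ⟨F, fun a ha => hSF (by simp [ha]), hF, mem_supported.2 fun a ha => hSF (by simp [Finset.mem_coe.1 ha]),
    fun F' hFF' hF' => ?_⟩
  have hps : p ∈ supported R F' := mem_supported.2 fun a ha =>
    hFF' (hSF (by simp [Finset.mem_coe.1 ha]))
  rw [← proj_of_supported hps, ← hc, map_finsuppSum]
  refine Ideal.sum_mem _ fun a ha => ?_
  have haF : a ∈ F' := hFF' (hSF (by simp [ha]))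
  simp only [smul_eq_mul, map_mul, proj_of_supported (T.eqn_mem_supported hF' haF)]
  exact Ideal.mul_mem_left _ _ (T.eqn_mem_idealOn haF)

theorem exists_stage_lift {k : ℕ} (b : Fin k → T.Quot) (S : Finset σ) :
    ∃ (F : Finset σ) (hF : T.Closed (↑F : Set σ)) (b' : Fin k → T.QuotOn ↑F),
      S ⊆ F ∧ ∀ l, T.toQuot hF (b' l) = b l := by
  classical
  choose p hp using fun l => Ideal.Quotient.mk_surjective (b l)
  obtain ⟨F, hSF, hF⟩ := T.exists_closed_finite (S ∪ Finset.univ.biUnion fun l => (p l).vars)
  refine ⟨F, hF, fun l => Ideal.Quotient.mk _ (p l), fun a ha => hSF (by simp [ha]), fun l => ?_⟩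
  rw [T.toQuot_mk hF (mem_supported.2 fun a ha => hSF (Finset.mem_union_right _
    (Finset.mem_biUnion.2 ⟨l, Finset.mem_univ _, ha⟩))), hp]

theorem toQuot_trans {F F' : Set σ} (hF : T.Closed F) (hF' : T.Closed F') (h : F ⊆ F') (x : T.QuotOn F) :
    T.toQuot hF' (T.trans hF h x) = T.toQuot hF x := by
  obtain ⟨p, rfl⟩ := Ideal.Quotient.mk_surjective x
  show Ideal.Quotient.mk _ (proj F' (proj F p)) = Ideal.Quotient.mk _ (proj F p)
  congr 1
  rw [← AlgHom.comp_apply]
  congr 1
  refine MvPolynomial.algHom_ext fun b => ?_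
  rw [AlgHom.comp_apply]
  by_cases hb : b ∈ F
  · rw [proj_X_of_mem hb, proj_X_of_mem (h hb)]
  · rw [proj_X_of_notMem hb, map_zero]

theorem exists_trans_eq_zero {F : Finset σ} (hF : T.Closed (↑F : Set σ)) {x : T.QuotOn ↑F}
    (hx : T.toQuot hF x = 0) :
    ∃ (F' : Finset σ) (h : (↑F : Set σ) ⊆ ↑F'), T.Closed (↑F' : Set σ) ∧ T.trans hF h x = 0 := by
  obtain ⟨p, rfl⟩ := Ideal.Quotient.mk_surjective x
  have hx' : proj (R := R) (↑F : Set σ) p ∈ T.ideal := Ideal.Quotient.eq_zero_iff_mem.1 hx
  obtain ⟨F', hFF', hF', -, hmem⟩ := T.exists_stage_of_mem_ideal hx' F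
  refine ⟨F', Finset.coe_subset.2 hFF', hF', ?_⟩
  rw [trans_mk]
  exact Ideal.Quotient.eq_zero_iff_mem.2 (hmem _ subset_rfl hF')

/-- The quotient is flat over the base. -/
theorem flat [Nontrivial R] : Module.Flat R T.Quot := by
  classical
  refine Module.Flat.iff_forall_isTrivialRelation.2 fun {l f x} h => ?_
  obtain ⟨F, hF, x', -, hx'⟩ := T.exists_stage_lift x ∅
  obtain ⟨F', hFF', hF', h0⟩ := T.exists_trans_eq_zero hF (x := ∑ i, f i • x' i) (by
    rw [map_sum]; simp only [map_smul, hx', h])
  haveI := (T.finite_flat_quotOn hF').2.2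
  rw [map_sum] at h0
  simp only [map_smul] at h0
  obtain ⟨k, a, y, hy, ha⟩ := Module.Flat.isTrivialRelation_of_sum_smul_eq_zero h0
  refine ⟨k, a, fun j => T.toQuot hF' (y j), fun i => ?_, ha⟩
  have := congrArg (T.toQuot hF') (hy i)
  rw [T.toQuot_trans hF hF', hx', map_sum] at this
  simpa only [map_smul] using this

/-- Ideals of a finite stage are contracted from the quotient. -/
theorem mem_of_toQuot_mem_map [Nontrivial R] {F : Finset σ} (hF : T.Closed (↑F : Set σ))
    (I : Ideal (T.QuotOn ↑F)) {x : T.QuotOn ↑F} (hx : T.toQuot hF x ∈ I.map (T.toQuot hF)) : x ∈ I := by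
  classical
  obtain ⟨k, b, y, hsum⟩ := Submodule.mem_span_set'.1 hx
  choose y' hy' hyeq using fun l : Fin k => (y l).2
  obtain ⟨F₁, hF₁, b', hFF₁, hb'⟩ := T.exists_stage_lift b F
  have h1 : (↑F : Set σ) ⊆ ↑F₁ := Finset.coe_subset.2 hFF₁
  obtain ⟨F₂, h2, hF₂, h0⟩ := T.exists_trans_eq_zero hF₁
    (x := T.trans hF h1 x - ∑ l, b' l * T.trans hF h1 (y' l)) (by
    simp only [map_sub, map_sum, map_mul, T.toQuot_trans hF hF₁, hb', hyeq]
    rw [← hsum, sub_eq_zero]
    rfl)
  haveI := (T.finite_flat_quotOn hF).1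
  obtain ⟨-, -, hff⟩ := T.trans_spec hF hF₂ (h1.trans h2) (F₂.finite_toSet.sdiff)
  letI := (T.trans hF (h1.trans h2)).toRingHom.toAlgebra
  haveI : Module.FaithfullyFlat (T.QuotOn ↑F) (T.QuotOn ↑F₂) := hff
  rw [← Ideal.comap_map_eq_self_of_faithfullyFlat (B := T.QuotOn ↑F₂) I, Ideal.mem_comap]
  show T.trans hF (h1.trans h2) x ∈ I.map (T.trans hF (h1.trans h2)).toRingHom
  rw [map_sub, sub_eq_zero, T.trans_trans hF hF₁, map_sum] at h0
  rw [h0]
  refine Ideal.sum_mem _ fun l _ => ?_
  rw [map_mul, T.trans_trans hF hF₁]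
  exact Ideal.mul_mem_left _ _ (Ideal.mem_map_of_mem _ (hy' l))

theorem nontrivial_quot [Nontrivial R] : Nontrivial T.Quot := by
  obtain ⟨F, -, hF⟩ := T.exists_closed_finite ∅
  haveI := (T.finite_flat_quotOn hF).1
  refine ⟨0, 1, fun h => ?_⟩
  have h1 := T.mem_of_toQuot_mem_map hF ⊥ (x := 1) (by rw [map_one, ← h]; exact zero_mem _)
  exact one_ne_zero ((Submodule.mem_bot _).1 h1)

/-- The quotient is integral over the base. -/
theorem isIntegral : Algebra.IsIntegral R T.Quot := by
  let q := Ideal.Quotient.mkₐ R T.ideal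
  have key : ∀ a : σ, q (X a) ∈ integralClosure R T.Quot := by
    intro a
    induction a using WellFoundedLT.induction with
    | ind a ih =>
      have hsup : ∀ p ∈ supported R {b | b < a}, q p ∈ integralClosure R T.Quot := by
        intro p hp
        rw [supported] at hp
        induction hp using Algebra.adjoin_induction with
        | mem x hx => obtain ⟨b, hb, rfl⟩ := hx; exact ih b hb
        | algebraMap r => rw [AlgHom.commutes]; exact Subalgebra.algebraMap_mem _ r
        | add x y _ _ hx hy => rw [map_add]; exact Subalgebra.add_mem _ hx hy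
        | mul x y _ _ hx hy => rw [map_mul]; exact Subalgebra.mul_mem _ hx hy
      let g := (T.G a).map q.toRingHom
      have hg : g.Monic := (T.monic a).map _
      have hco : ∀ i, g.coeff i ∈ (integralClosure R T.Quot).toSubring := fun i => by
        rw [Polynomial.coeff_map]; exact hsup _ (T.lower a i)
      refine isIntegral_trans (A := integralClosure R T.Quot) _
        ⟨g.toSubring _ (fun y hy => by
          obtain ⟨i, -, rfl⟩ := Polynomial.mem_coeffs_iff.1 hy; exact hco i),
          (Polynomial.monic_toSubring _ _ _).2 hg, ?_⟩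
      have hmap : (g.toSubring (integralClosure R T.Quot).toSubring (fun y hy => by
          obtain ⟨i, -, rfl⟩ := Polynomial.mem_coeffs_iff.1 hy; exact hco i)).map
          (algebraMap (integralClosure R T.Quot) T.Quot) = g := by
        ext i
        rw [Polynomial.coeff_map]
        exact Polynomial.coeff_toSubring' _ _ _
      rw [← Polynomial.eval_map, hmap, Polynomial.eval_map]
      show Polynomial.eval₂ q.toRingHom (q.toRingHom (X a)) (T.G a) = 0
      rw [Polynomial.eval₂_hom]
      exact Ideal.Quotient.eq_zero_iff_mem.2 (Ideal.subset_span ⟨a, rfl⟩)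
  refine ⟨fun z => ?_⟩
  obtain ⟨p, rfl⟩ := Ideal.Quotient.mk_surjective z
  show q p ∈ integralClosure R T.Quot
  induction p using MvPolynomial.induction_on with
  | C r => rw [← MvPolynomial.algebraMap_eq, AlgHom.commutes]; exact Subalgebra.algebraMap_mem _ r
  | add x y hx hy => rw [map_add]; exact Subalgebra.add_mem _ hx hy
  | mul_X x b hx => rw [map_mul]; exact Subalgebra.mul_mem _ hx (key b)

/-- Recognition of the kernel of a map which is minimal for the system. -/
theorem ker_le {L : Type u} [CommRing L] (φ : MvPolynomial σ R →+* L)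
    (heq : ∀ a, φ (T.eqn a) = 0)
    (hind : ∀ a (c : ℕ → MvPolynomial σ R), (∀ i, c i ∈ supported R {b | b < a}) →
      (∑ i ∈ Finset.range (T.G a).natDegree, φ (c i) * φ (X a) ^ i = 0) →
      ∀ i < (T.G a).natDegree, φ (c i) = 0) :
    RingHom.ker φ ≤ T.ideal ⊔ (RingHom.ker (φ.comp C)).map C := by
  classical
  set K := T.ideal ⊔ (RingHom.ker (φ.comp C)).map C
  have hbase : ∀ (s : Set σ), (∀ b, b ∉ s) → ∀ p ∈ supported R s, φ p = 0 → p ∈ K := by
    intro s hs p hp h0
    have hbot : supported R s = ⊥ := by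
      rw [Set.eq_empty_iff_forall_notMem.2 hs, supported_empty]
    rw [hbot, Algebra.mem_bot] at hp
    obtain ⟨r, rfl⟩ := hp
    exact Ideal.mem_sup_right (Ideal.mem_map_of_mem _ h0)
  have key : ∀ a, ∀ p ∈ supported R {b | b ≤ a}, φ p = 0 → p ∈ K := by
    intro a
    induction a using WellFoundedLT.induction with
    | ind a ih =>
      intro p hp h0
      let S := supported R {b : σ | b < a}
      have hlt : ∀ r ∈ S, φ r = 0 → r ∈ K := by
        intro r hr hr0
        have hsub := mem_supported.1 hr
        rcases r.vars.eq_empty_or_nonempty with he | hne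
        · exact hbase (↑r.vars) (fun b hb => by simp [he] at hb) r (mem_supported_vars r) hr0
        · exact ih _ (hsub (Finset.max'_mem _ hne)) r
            (mem_supported.2 fun b hb => Finset.le_max' _ b hb) hr0
      let ev : Polynomial S →+* MvPolynomial σ R := Polynomial.eval₂RingHom S.val.toRingHom (X a)
      obtain ⟨Q, hQ⟩ : ∃ Q, ev Q = p := by
        clear h0
        rw [supported] at hp
        induction hp using Algebra.adjoin_induction with
        | mem x hx =>
          obtain ⟨b, hb, rfl⟩ := hx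
          rcases (show b ≤ a from hb).lt_or_eq with hb' | rfl
          · exact ⟨Polynomial.C ⟨X b, by
              show X b ∈ supported R {b | b < a}
              rw [supported]; exact Algebra.subset_adjoin ⟨b, hb', rfl⟩⟩, by simp [ev]⟩
          · exact ⟨Polynomial.X, by simp [ev]⟩
        | algebraMap r => exact ⟨Polynomial.C (algebraMap R S r), by simp [ev]⟩
        | add x y _ _ hx hy =>
          obtain ⟨u, rfl⟩ := hx; obtain ⟨w, rfl⟩ := hy
          exact ⟨u + w, map_add ev u w⟩
        | mul x y _ _ hx hy =>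
          obtain ⟨u, rfl⟩ := hx; obtain ⟨w, rfl⟩ := hy
          exact ⟨u * w, map_mul ev u w⟩
      obtain ⟨G', hG', hdeg, hG'm⟩ : ∃ G' : Polynomial S, G'.map S.val.toRingHom = T.G a ∧
          G'.natDegree = (T.G a).natDegree ∧ G'.Monic := by
        have hc : (↑(T.G a).coeffs : Set (MvPolynomial σ R)) ⊆ S.toSubring := fun y hy => by
          obtain ⟨i, -, rfl⟩ := Polynomial.mem_coeffs_iff.1 hy; exact T.lower a i
        refine ⟨(T.G a).toSubring _ hc, ?_, Polynomial.natDegree_toSubring _ _ _,
          (Polynomial.monic_toSubring _ _ _).2 (T.monic a)⟩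
        ext1; ext1
        rw [Polynomial.coeff_map]
        exact congrArg _ (Polynomial.coeff_toSubring' _ _ _)
      have hevG : ev G' = T.eqn a := by
        rw [eqn, ← hG', Polynomial.eval_map]
        rfl
      have hmem1 : ev (G' * (Q /ₘ G')) ∈ K := by
        rw [map_mul, hevG]
        exact Ideal.mem_sup_left (Ideal.mul_mem_right _ _ (Ideal.subset_span ⟨a, rfl⟩))
      rw [← hQ, ← Polynomial.modByMonic_add_div Q G', map_add]
      refine add_mem ?_ hmem1
      rcases subsingleton_or_nontrivial S with hS | hS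
      · rw [Subsingleton.elim (Q %ₘ G') 0, map_zero]; exact zero_mem _
      have hdegr : (Q %ₘ G').natDegree < (T.G a).natDegree := by
        rw [← hdeg]
        exact Polynomial.natDegree_modByMonic_lt Q hG'm (fun h1 => by
          have := congrArg Polynomial.natDegree h1
          rw [hdeg, Polynomial.natDegree_one] at this
          exact (T.pos a).ne' this)
      have hev : ev (Q %ₘ G') = ∑ i ∈ Finset.range (T.G a).natDegree,
          ((Q %ₘ G').coeff i : MvPolynomial σ R) * X a ^ i := by
        show Polynomial.eval₂ _ _ _ = _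
        rw [Polynomial.eval₂_eq_sum_range' _ hdegr]
        rfl
      have hφr : φ (ev (Q %ₘ G')) = 0 := by
        have h1 : φ (ev (G' * (Q /ₘ G'))) = 0 := by rw [map_mul, hevG, map_mul, heq, zero_mul]
        have h2 := congrArg (φ ∘ ev) (Polynomial.modByMonic_add_div Q G')
        simp only [Function.comp_apply, map_add, h1, add_zero, hQ, h0] at h2
        exact h2
      rw [hev]
      refine Ideal.sum_mem _ fun i hi => Ideal.mul_mem_right _ _ (hlt _ ((Q %ₘ G').coeff i).2 ?_)
      refine hind a (fun i => ((Q %ₘ G').coeff i : MvPolynomial σ R)) (fun i => ((Q %ₘ G').coeff i).2) ?_ i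
        (Finset.mem_range.1 hi)
      rw [← hφr, hev, map_sum]
      simp only [map_mul, map_pow]
  intro p hp
  rcases p.vars.eq_empty_or_nonempty with he | hne
  · exact hbase (↑p.vars) (fun b hb => by simp [he] at hb) p (mem_supported_vars p) hp
  · exact key (p.vars.max' hne) p (mem_supported.2 fun b hb => Finset.le_max' _ b hb) hp

end Triangular

end Groth.Agent.CAlgResExt
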