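import Mathlib
import Groth.Agent.CAlgResExt.Triangular
import Groth.Agent.CAlgResExt.Criterion

/-!
Flat local extensions with prescribed algebraic residue field extension.
-/

namespace Groth.Agent.CAlgResExt

open MvPolynomial IsLocalRing

universe u

variable {R : Type u} [CommRing R] [IsLocalRing R] {K : Type u} [Field K]
  [Algebra (ResidueField R) K]

/-- An extension of local rings realizing the residue extension `K`. -/
structure Realization (R : Type u) [CommRing R] [IsLocalRing R] (K : Type u) [Field K]
    [Algebra (ResidueField R) K] where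
  B : Type u
  [commRing : CommRing B]
  [algebra : Algebra R B]
  [localRing : IsLocalRing B]
  flat : Module.Flat R B
  map_max : (maximalIdeal R).map (algebraMap R B) = maximalIdeal B
  ψ : B →+* K
  surj : Function.Surjective ψ
  ker : RingHom.ker ψ = maximalIdeal B
  comm : ∀ r, ψ (algebraMap R B r) = algebraMap (ResidueField R) K (residue R r)

attribute [instance] Realization.commRing Realization.algebra Realization.localRing

open Classical in
theorem exists_algebraic_realization [Algebra.IsAlgebraic (ResidueField R) K] {σ : Type u}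
    (v : σ → K) (hv : Algebra.adjoin (ResidueField R) (Set.range v) = ⊤) :
    ∃ E : Realization R K, (IsNoetherianRing R → IsNoetherianRing E.B) ∧
      (Finite σ → Module.Finite R E.B) := by
  letI : LinearOrder σ := linearOrderOfSTO WellOrderingRel
  haveI : WellFoundedLT σ := ⟨IsWellFounded.wf (r := WellOrderingRel)⟩
  let k := ResidueField R
  let χ : R →+* K := (algebraMap k K).comp (residue R)
  let φ : MvPolynomial σ R →+* K := eval₂Hom χ v
  have hφC : ∀ r, φ (C r) = χ r := fun r => eval₂Hom_C χ v r
  have hφX : ∀ a, φ (X a) = v a := fun a => eval₂Hom_X' χ v a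
  -- images of sub-polynomial rings
  have himg : ∀ (s : Set σ), ∀ x ∈ Algebra.adjoin k (v '' s), ∃ p ∈ supported R s, φ p = x := by
    intro s x hx
    induction hx using Algebra.adjoin_induction with
    | mem x hx =>
      obtain ⟨b, hb, rfl⟩ := hx
      exact ⟨X b, by rw [supported]; exact Algebra.subset_adjoin ⟨b, hb, rfl⟩, hφX b⟩
    | algebraMap c =>
      obtain ⟨r, rfl⟩ := residue_surjective c
      exact ⟨C r, (supported R s).algebraMap_mem r, hφC r⟩
    | add x y _ _ hx hy =>
      obtain ⟨p, hp, rfl⟩ := hx; obtain ⟨q, hq, rfl⟩ := hy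
      exact ⟨p + q, Subalgebra.add_mem _ hp hq, map_add φ p q⟩
    | mul x y _ _ hx hy =>
      obtain ⟨p, hp, rfl⟩ := hx; obtain ⟨q, hq, rfl⟩ := hy
      exact ⟨p * q, Subalgebra.mul_mem _ hp hq, map_mul φ p q⟩
  have himg' : ∀ (s : Set σ), ∀ p ∈ supported R s, φ p ∈ Algebra.adjoin k (v '' s) := by
    intro s p hp
    rw [supported] at hp
    induction hp using Algebra.adjoin_induction with
    | mem x hx => obtain ⟨b, hb, rfl⟩ := hx; rw [hφX]; exact Algebra.subset_adjoin ⟨b, hb, rfl⟩
    | algebraMap r => rw [MvPolynomial.algebraMap_eq, hφC]; exact Subalgebra.algebraMap_mem _ _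
    | add x y _ _ hx hy => rw [map_add]; exact Subalgebra.add_mem _ hx hy
    | mul x y _ _ hx hy => rw [map_mul]; exact Subalgebra.mul_mem _ hx hy
  let E : σ → IntermediateField k K := fun a => IntermediateField.adjoin k (v '' {b | b < a})
  have hE : ∀ a, (E a).toSubalgebra = Algebra.adjoin k (v '' {b | b < a}) := fun a =>
    IntermediateField.adjoin_toSubalgebra_of_isAlgebraic fun x _ => Algebra.IsAlgebraic.isAlgebraic x
  have hint : ∀ a, IsIntegral (E a) (v a) := fun a =>
    (Algebra.IsAlgebraic.isAlgebraic (R := k) (v a)).isIntegral.tower_top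
  have hlift : ∀ a (i : ℕ), ∃ p ∈ supported R {b | b < a},
      φ p = ((minpoly (E a) (v a)).coeff i : K) := fun a i =>
    himg _ _ (hE a ▸ ((minpoly (E a) (v a)).coeff i).2)
  choose c hc hφc using hlift
  let d : σ → ℕ := fun a => (minpoly (E a) (v a)).natDegree
  let low : σ → Polynomial (MvPolynomial σ R) := fun a =>
    ∑ i ∈ Finset.range (d a), Polynomial.C (c a i) * Polynomial.X ^ i
  have hlowdeg : ∀ a, (low a).degree < (d a : ℕ) := fun a => by
    refine lt_of_le_of_lt (Polynomial.degree_sum_le _ _) ((Finset.sup_lt_iff ?_).2 fun i hi => ?_)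
    · exact WithBot.bot_lt_coe _
    · exact lt_of_le_of_lt (Polynomial.degree_C_mul_X_pow_le i _) (by exact_mod_cast Finset.mem_range.1 hi)
  let T : Triangular R σ :=
    { G := fun a => Polynomial.X ^ d a + low a
      monic := fun a => Polynomial.monic_X_pow_add (hlowdeg a)
      pos := fun a => by
        rw [Polynomial.natDegree_eq_of_degree_eq_some (n := d a)]
        · exact minpoly.natDegree_pos (hint a)
        · rw [Polynomial.degree_add_eq_left_of_degree_lt (by rw [Polynomial.degree_X_pow]; exact hlowdeg a),
            Polynomial.degree_X_pow]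
      lower := fun a i => by
        rw [Polynomial.coeff_add, Polynomial.coeff_X_pow, Polynomial.finset_sum_coeff]
        refine Subalgebra.add_mem _ ?_ (Subalgebra.sum_mem _ fun j _ => ?_)
        · split_ifs <;> first | exact Subalgebra.one_mem _ | exact Subalgebra.zero_mem _
        · rw [Polynomial.coeff_C_mul_X_pow]
          split_ifs
          · exact hc a j
          · exact Subalgebra.zero_mem _ }
  have hdT : ∀ a, (T.G a).natDegree = d a := fun a => by
    refine Polynomial.natDegree_eq_of_degree_eq_some ?_
    show (Polynomial.X ^ d a + low a).degree = _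
    rw [Polynomial.degree_add_eq_left_of_degree_lt (by rw [Polynomial.degree_X_pow]; exact hlowdeg a),
      Polynomial.degree_X_pow]
  have hroot : ∀ a, v a ^ d a + ∑ i ∈ Finset.range (d a), ((minpoly (E a) (v a)).coeff i : K) * v a ^ i = 0 := by
    intro a
    have h := minpoly.aeval (E a) (v a)
    rw [Polynomial.aeval_eq_sum_range, Finset.sum_range_succ] at h
    simp only [Algebra.smul_def] at h
    rw [Polynomial.Monic.coeff_natDegree (minpoly.monic (hint a)), map_one, one_mul] at h
    rw [add_comm]
    exact h
  have heq : ∀ a, φ (T.eqn a) = 0 := by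
    intro a
    show φ (Polynomial.eval (X a) (Polynomial.X ^ d a + low a)) = 0
    rw [Polynomial.eval_add, Polynomial.eval_X_pow, Polynomial.eval_finsetSum, map_add, map_pow, map_sum, hφX]
    simp only [Polynomial.eval_mul, Polynomial.eval_C, Polynomial.eval_X_pow, map_mul, map_pow, hφX, hφc]
    exact hroot a
  have hind : ∀ a (c' : ℕ → MvPolynomial σ R), (∀ i, c' i ∈ supported R {b | b < a}) →
      (∑ i ∈ Finset.range (T.G a).natDegree, φ (c' i) * φ (X a) ^ i = 0) →
      ∀ i < (T.G a).natDegree, φ (c' i) = 0 := by
    intro a c' hc' hsum i hi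
    rw [hdT] at hsum hi
    have hmem : ∀ i, φ (c' i) ∈ E a := fun i => by
      rw [← IntermediateField.mem_toSubalgebra, hE]; exact himg' _ _ (hc' i)
    let P : Polynomial (E a) := ∑ j ∈ Finset.range (d a), Polynomial.C ⟨φ (c' j), hmem j⟩ * Polynomial.X ^ j
    have hP : Polynomial.aeval (v a) P = 0 := by
      rw [map_sum, ← hsum]
      exact Finset.sum_congr rfl fun j _ => by simp [hφX]
    have hdeg : P.degree < (minpoly (E a) (v a)).degree := by
      rw [Polynomial.degree_eq_natDegree (minpoly.ne_zero (hint a))]
      refine lt_of_le_of_lt (Polynomial.degree_sum_le _ _) ((Finset.sup_lt_iff ?_).2 fun j hj => ?_)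
      · exact WithBot.bot_lt_coe _
      · exact lt_of_le_of_lt (Polynomial.degree_C_mul_X_pow_le j _) (by exact_mod_cast Finset.mem_range.1 hj)
    have hP0 : P = 0 := by
      by_contra hne
      exact absurd (minpoly.degree_le_of_ne_zero (E a) (v a) hne hP) (not_le.2 hdeg)
    have h3 := congrArg (fun Q => Polynomial.coeff Q i) hP0
    simp only [P, Polynomial.finset_sum_coeff, Polynomial.coeff_C_mul_X_pow, Polynomial.coeff_zero] at h3
    rw [Finset.sum_ite_eq, if_pos (Finset.mem_range.2 hi)] at h3
    exact congrArg Subtype.val h3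
  have hkerχ : RingHom.ker (φ.comp C) = maximalIdeal R := by
    ext r
    rw [RingHom.mem_ker, RingHom.comp_apply, hφC, RingHom.comp_apply, map_eq_zero]
    exact Ideal.Quotient.eq_zero_iff_mem
  have hJ : T.ideal ≤ RingHom.ker φ := by
    rw [Triangular.ideal, Ideal.span_le]
    rintro _ ⟨a, rfl⟩
    exact heq a
  let ψ : T.Quot →+* K := Ideal.Quotient.lift _ φ fun p hp => hJ hp
  have hψ : Function.Surjective ψ := fun x => by
    obtain ⟨p, -, hp⟩ := himg Set.univ x (by rw [Set.image_univ, hv]; exact Algebra.mem_top)
    exact ⟨Ideal.Quotient.mk _ p, hp⟩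
  let M := (maximalIdeal R).map (algebraMap R T.Quot)
  have hker : RingHom.ker ψ = M := by
    refine le_antisymm (fun z hz => ?_) ?_
    · obtain ⟨p, rfl⟩ := Ideal.Quotient.mk_surjective z
      have h1 := T.ker_le φ heq hind (x := p) hz
      rw [hkerχ] at h1
      have h2 := Ideal.mem_map_of_mem (Ideal.Quotient.mk T.ideal) h1
      rw [Ideal.map_sup, Ideal.map_quotient_self, bot_sup_eq, Ideal.map_map] at h2
      exact h2
    · rw [Ideal.map_le_iff_le_comap]
      intro r hr
      show φ (C r) = 0
      rw [← RingHom.comp_apply, ← RingHom.mem_ker, hkerχ]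
      exact hr
  haveI hMmax : M.IsMaximal := hker ▸ RingHom.ker_isMaximal_of_surjective ψ hψ
  haveI := T.isIntegral
  haveI : IsLocalRing T.Quot := IsLocalRing.of_unique_max_ideal ⟨M, hMmax, fun N hN => by
    haveI := hN
    refine (hMmax.eq_of_le hN.ne_top ?_).symm
    rw [Ideal.map_le_iff_le_comap]
    exact le_of_eq (IsLocalRing.eq_maximalIdeal (Ideal.isMaximal_comap_of_isIntegral_of_isMaximal N)).symm⟩
  have hM : M = maximalIdeal T.Quot := IsLocalRing.eq_maximalIdeal hMmax
  refine ⟨{ B := T.Quot
            flat := T.flat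
            map_max := hM
            ψ := ψ
            surj := hψ
            ker := hker.trans hM
            comm := fun r => hφC r }, fun hR => ?_, fun hσ => ?_⟩
  · refine isNoetherianRing_of_closed (B := T.Quot) (hM ▸ (maximalIdeal R).fg_of_isNoetherianRing.map _)
      fun I hI x hx => ?_
    obtain ⟨n₀, g, hg⟩ := Submodule.fg_iff_exists_fin_generating_family.1 hI
    obtain ⟨F, hF, b', -, hb'⟩ := T.exists_stage_lift (Fin.cons x g : Fin (n₀ + 1) → T.Quot) ∅
    let C' := T.QuotOn (↑F : Set σ)
    haveI : Module.Finite R C' := (T.finite_flat_quotOn hF).2.1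
    let I' : Ideal C' := Ideal.span (Set.range fun l : Fin n₀ => b' l.succ)
    have hmap : I'.map (T.toQuot hF) = I := by
      rw [Ideal.map_span, ← hg, ← Set.range_comp]
      congr 2
      funext l
      simp [hb']
    have key : b' 0 ∈ I'.restrictScalars R := by
      refine CAlgCompl.mem_of_forall_mem_sup (I := maximalIdeal R)
        (IsLocalRing.maximalIdeal_le_jacobson _) (I'.restrictScalars R) fun n => ?_
      rw [Ideal.smul_top_eq_map]
      have h1 : b' 0 ∈ I' ⊔ (maximalIdeal R ^ n).map (algebraMap R C') := by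
        refine T.mem_of_toQuot_mem_map hF _ ?_
        rw [hb' 0, Fin.cons_zero, Ideal.map_sup, hmap]
        refine SetLike.le_def.mp (sup_le_sup le_rfl ?_) (hx n)
        rw [← hM, ← Ideal.map_pow]
        refine le_of_eq ?_
        symm
        show Ideal.map (T.toQuot hF).toRingHom (Ideal.map (algebraMap R C') _) = _
        rw [Ideal.map_map]
        congr 1
        exact (T.toQuot hF).comp_algebraMap
      obtain ⟨u, hu, w, hw, huw⟩ := Submodule.mem_sup.1 h1
      exact huw ▸ Submodule.add_mem_sup (S := I'.restrictScalars R) hu hw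
    have h2 := Ideal.mem_map_of_mem (T.toQuot hF) (show b' 0 ∈ I' from key)
    rwa [hmap, hb' 0, Fin.cons_zero] at h2
  · haveI := Fintype.ofFinite σ
    have hF : T.Closed (↑(Finset.univ : Finset σ) : Set σ) := fun a _ i => by simp
    haveI := (T.finite_flat_quotOn hF).2.1
    refine Module.Finite.of_surjective (T.toQuot hF).toLinearMap fun z => ?_
    obtain ⟨p, rfl⟩ := Ideal.Quotient.mk_surjective z
    exact ⟨Ideal.Quotient.mk _ p, T.toQuot_mk hF (by simp)⟩

end Groth.Agent.CAlgResExt
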