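import Mathlib
import Groth.Agent.CAlgResExt.Criterion

/-!
A local ring covered by Noetherian local rings along flat local homomorphisms generating the
maximal ideal is Noetherian.
-/

namespace Groth.Agent.CAlgResExt

open IsLocalRing

universe u

theorem isNoetherianRing_of_stages {B : Type u} [CommRing B] [IsLocalRing B]
    (h : ∀ (n : ℕ) (b : Fin n → B), ∃ (A : Type u) (_ : CommRing A) (_ : IsLocalRing A)
      (_ : IsNoetherianRing A) (φ : A →+* B), φ.Flat ∧ IsLocalHom φ ∧
      (maximalIdeal A).map φ = maximalIdeal B ∧ ∃ a : Fin n → A, ∀ i, φ (a i) = b i) :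
    IsNoetherianRing B := by
  obtain ⟨A₀, _, _, _, φ₀, -, -, h₀, -⟩ := h 0 Fin.elim0
  refine isNoetherianRing_of_closed (h₀ ▸ (maximalIdeal A₀).fg_of_isNoetherianRing.map _)
    fun I hI x hx => ?_
  obtain ⟨m, g, hg⟩ := Submodule.fg_iff_exists_fin_generating_family.1 hI
  obtain ⟨A, _, _, _, φ, hflat, hloc, hmax, a, ha⟩ := h _ (Fin.cons x g)
  let J : Ideal A := Ideal.span (Set.range fun l : Fin m => a l.succ)
  have hmap : J.map φ = I := by
    rw [Ideal.map_span, ← hg, ← Set.range_comp]
    congr 2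
    funext l
    simp [ha]
  have hmem : a 0 ∈ J := by
    refine CAlgCompl.mem_of_forall_mem_sup (I := maximalIdeal A)
      (IsLocalRing.maximalIdeal_le_jacobson _) J fun n => ?_
    algebraize [φ]
    haveI : IsLocalHom (algebraMap A B) := hloc
    haveI := Module.FaithfullyFlat.of_flat_of_isLocalHom (A := A) (B := B)
    rw [smul_eq_mul, Ideal.mul_top,
      ← Ideal.comap_map_eq_self_of_faithfullyFlat (B := B) (J ⊔ maximalIdeal A ^ n),
      Ideal.mem_comap]
    show φ (a 0) ∈ Ideal.map φ _
    rw [Ideal.map_sup, Ideal.map_pow, hmap, hmax, ha, Fin.cons_zero]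
    exact hx n
  have := Ideal.mem_map_of_mem φ hmem
  rwa [hmap, ha, Fin.cons_zero] at this

end Groth.Agent.CAlgResExt
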