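import Mathlib
import Groth.Agent.CAlgResExt.Algebraic
import Groth.Agent.CAlgResExt.Stages

/-!
Flat local extensions realizing an arbitrary residue field extension.
-/

namespace Groth.Agent.CAlgResExt

open MvPolynomial IsLocalRing

universe u

theorem flat_rename_subtype {R : Type u} [CommRing R] {T : Type u} (s : Set T) :
    (rename (R := R) ((↑) : s → T)).toRingHom.Flat := by
  classical
  let e : MvPolynomial T R ≃ₐ[R] MvPolynomial (↥sᶜ) (MvPolynomial s R) :=
    (renameEquiv R ((Equiv.Set.sumCompl s).symm.trans (Equiv.sumComm _ _))).trans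
      (sumAlgEquiv R (↥sᶜ) s)
  have he : (rename (R := R) ((↑) : s → T)).toRingHom
      = e.symm.toRingEquiv.toRingHom.comp (C : MvPolynomial s R →+* _) := by
    refine MvPolynomial.ringHom_ext (fun r => ?_) fun i => ?_ <;>
      · show _ = e.symm (C _)
        rw [eq_comm, AlgEquiv.symm_apply_eq]
        simp [e]
  rw [he]
  refine RingHom.Flat.comp ?_ (RingHom.Flat.of_bijective e.symm.bijective)
  rw [← MvPolynomial.algebraMap_eq, RingHom.flat_algebraMap_iff]
  infer_instance

theorem flat_of_comp_flat {P A B : Type u} [CommRing P] [CommRing A] [CommRing B] [Algebra P A]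
    (M : Submonoid P) [IsLocalization M A] (φ : A →+* B) (h : (φ.comp (algebraMap P A)).Flat) :
    φ.Flat := by
  letI := φ.toAlgebra
  letI := (φ.comp (algebraMap P A)).toAlgebra
  haveI : IsScalarTower P A B := IsScalarTower.of_algebraMap_eq' rfl
  exact (Module.flat_iff_of_isLocalization A M B).2 h

/-- The prime `m R[T]`. -/
noncomputable abbrev polyPrime (R : Type u) [CommRing R] [IsLocalRing R] (T : Type u) :
    Ideal (MvPolynomial T R) :=
  RingHom.ker (MvPolynomial.map (σ := T) (residue R))

instance (R : Type u) [CommRing R] [IsLocalRing R] (T : Type u) : (polyPrime R T).IsPrime :=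
  RingHom.ker_isPrime _

theorem polyPrime_eq (R : Type u) [CommRing R] [IsLocalRing R] (T : Type u) :
    polyPrime R T = (maximalIdeal R).map C := by
  rw [polyPrime, MvPolynomial.ker_map, ker_residue]

/-- The localisation of `R[T]` at `m R[T]`. -/
abbrev PolyLoc (R : Type u) [CommRing R] [IsLocalRing R] (T : Type u) : Type u :=
  Localization.AtPrime (polyPrime R T)

theorem polyLoc_map_max (R : Type u) [CommRing R] [IsLocalRing R] (T : Type u) :
    (maximalIdeal R).map (algebraMap R (PolyLoc R T)) = maximalIdeal (PolyLoc R T) := by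
  rw [IsScalarTower.algebraMap_eq R (MvPolynomial T R) (PolyLoc R T), ← Ideal.map_map,
    MvPolynomial.algebraMap_eq, ← polyPrime_eq]
  exact IsLocalization.AtPrime.map_eq_maximalIdeal _ _

theorem isNoetherianRing_polyLoc (R : Type u) [CommRing R] [IsLocalRing R] [IsNoetherianRing R]
    (T : Type u) : IsNoetherianRing (PolyLoc R T) := by
  classical
  refine isNoetherianRing_of_stages fun n b => ?_
  choose p s hps using fun i => IsLocalization.exists_mk'_eq (polyPrime R T).primeCompl (b i)
  let F : Finset T := Finset.univ.biUnion fun i => (p i).vars ∪ (s i : MvPolynomial T R).vars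
  let j := rename (R := R) ((↑) : (↑F : Set T) → T)
  have hmem : ∀ q : MvPolynomial T R, q.vars ⊆ F → ∃ q', j q' = q := fun q hq => by
    obtain ⟨q', hq'⟩ := exists_rename_eq_of_vars_subset_range q ((↑) : (↑F : Set T) → T)
      Subtype.val_injective (by simpa using hq)
    exact ⟨q', hq'⟩
  choose p' hp' using fun i => hmem (p i) fun x hx =>
    Finset.mem_biUnion.2 ⟨i, Finset.mem_univ i, Finset.mem_union_left _ hx⟩
  choose s' hs' using fun i => hmem (s i) fun x hx =>
    Finset.mem_biUnion.2 ⟨i, Finset.mem_univ i, Finset.mem_union_right _ hx⟩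
  let P' := polyPrime R (↑F : Set T)
  have hj : ∀ q, j q ∈ polyPrime R T ↔ q ∈ P' := fun q => by
    rw [polyPrime, RingHom.mem_ker, MvPolynomial.map_rename, RingHom.mem_ker,
      map_eq_zero_iff _ (rename_injective _ Subtype.val_injective)]
  let A := Localization.AtPrime P'
  let g : MvPolynomial (↑F : Set T) R →+* PolyLoc R T :=
    (algebraMap (MvPolynomial T R) (PolyLoc R T)).comp j.toRingHom
  let φ : A →+* PolyLoc R T := IsLocalization.lift (M := P'.primeCompl) (g := g) fun y =>
    IsLocalization.map_units (PolyLoc R T)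
      (⟨j y, fun hy => y.2 ((hj _).1 hy)⟩ : (polyPrime R T).primeCompl)
  have hφg : φ.comp (algebraMap _ A) = g := IsLocalization.lift_comp _
  have hflat : φ.Flat := by
    have hg : g.Flat := RingHom.Flat.comp (flat_rename_subtype _)
      (RingHom.flat_algebraMap_iff.2 (IsLocalization.flat _ (polyPrime R T).primeCompl))
    exact flat_of_comp_flat P'.primeCompl φ (hφg.symm ▸ hg)
  have hmax : (maximalIdeal A).map φ = maximalIdeal (PolyLoc R T) := by
    rw [← polyLoc_map_max R (↑F : Set T), ← polyLoc_map_max R T, Ideal.map_map]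
    congr 1
    ext r
    rw [RingHom.comp_apply, IsScalarTower.algebraMap_apply R (MvPolynomial (↑F : Set T) R) A,
      IsScalarTower.algebraMap_apply R (MvPolynomial T R) (PolyLoc R T), ← RingHom.comp_apply φ,
      hφg, RingHom.comp_apply, AlgHom.toRingHom_eq_coe, RingHom.coe_coe, j.commutes]
  have hloc : IsLocalHom φ :=
    ((IsLocalRing.local_hom_TFAE φ).out 0 2).2 hmax.le
  haveI : IsNoetherianRing A := IsLocalization.isNoetherianRing P'.primeCompl _ inferInstance
  refine ⟨A, inferInstance, inferInstance, inferInstance, φ, hflat, hloc, hmax,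
    fun i => IsLocalization.mk' A (p' i)
      (⟨s' i, show s' i ∉ P' from fun h => (s i).2 (hs' i ▸ (hj _).2 h)⟩ : P'.primeCompl), fun i => ?_⟩
  rw [← hps, IsLocalization.lift_mk'_spec]
  show algebraMap _ _ (j (p' i)) = algebraMap _ _ (j (s' i)) * _
  rw [hp', hs', mul_comm, IsLocalization.mk'_spec]

theorem exists_realization (R : Type u) [CommRing R] [IsLocalRing R] (K : Type u) [Field K]
    [Algebra (ResidueField R) K] :
    ∃ E : Realization R K, IsNoetherianRing R → IsNoetherianRing E.B := by
  classical
  let k := ResidueField R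
  obtain ⟨T, hT⟩ := exists_isTranscendenceBasis k K
  let R1 := PolyLoc R T
  let φ : MvPolynomial T R →+* K :=
    (aeval (R := k) ((↑) : T → K)).toRingHom.comp (MvPolynomial.map (residue R))
  have hφ : ∀ q, φ q = 0 ↔ q ∈ polyPrime R T := fun q => by
    show aeval (R := k) ((↑) : T → K) (MvPolynomial.map (residue R) q) = 0 ↔ _
    rw [map_eq_zero_iff _ hT.1, polyPrime, RingHom.mem_ker]
  let ψ₁ : R1 →+* K := IsLocalization.lift (M := (polyPrime R T).primeCompl) (g := φ) fun y =>
    Ne.isUnit fun h => y.2 ((hφ y).1 h)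
  have hψ₁ : ψ₁.comp (algebraMap _ R1) = φ := IsLocalization.lift_comp _
  have hcommR : ∀ r, ψ₁ (algebraMap R R1 r) = algebraMap k K (residue R r) := fun r => by
    rw [IsScalarTower.algebraMap_apply R (MvPolynomial T R) R1, ← RingHom.comp_apply ψ₁, hψ₁]
    show aeval (R := k) _ (MvPolynomial.map (residue R) (C r)) = _
    rw [map_C, aeval_C]
  haveI : IsLocalHom ψ₁ := by
    refine ((IsLocalRing.local_hom_TFAE ψ₁).out 0 2).2 ?_
    rw [← polyLoc_map_max, Ideal.map_map, Ideal.map_le_iff_le_comap]
    intro r hr
    rw [Ideal.mem_comap, RingHom.comp_apply, hcommR, (residue_eq_zero_iff r).2 hr, map_zero]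
    exact zero_mem _
  let ι : ResidueField R1 →+* K := ResidueField.lift ψ₁
  letI : Algebra (ResidueField R1) K := ι.toAlgebra
  haveI : Algebra.IsAlgebraic (ResidueField R1) K := by
    haveI := hT.isAlgebraic
    refine ⟨fun x => ?_⟩
    obtain ⟨q, hq, hqx⟩ := Algebra.IsAlgebraic.isAlgebraic (R := Algebra.adjoin k (Set.range ((↑) : T → K))) x
    have hrange : ∀ a : Algebra.adjoin k (Set.range ((↑) : T → K)), ∃ c, ι c = (a : K) := fun a => by
      obtain ⟨a, ha⟩ := a
      rw [Algebra.adjoin_range_eq_range_aeval] at ha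
      obtain ⟨z, rfl⟩ := ha
      obtain ⟨z', rfl⟩ := MvPolynomial.map_surjective _ residue_surjective z
      exact ⟨residue R1 (algebraMap _ R1 z'), by
        show ψ₁ _ = _
        exact RingHom.congr_fun hψ₁ z'⟩
    obtain ⟨q', hq'⟩ : q.map (algebraMap _ K) ∈ Polynomial.lifts ι :=
      (Polynomial.lifts_iff_coeff_lifts _).2 fun i => by
        rw [Polynomial.coeff_map]; exact hrange (q.coeff i)
    rw [Polynomial.coe_mapRingHom] at hq'
    refine ⟨q', fun h => hq ?_, ?_⟩
    · rw [h, Polynomial.map_zero, eq_comm,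
        Polynomial.map_eq_zero_iff Subtype.val_injective] at hq'
      exact hq'
    · rw [Polynomial.aeval_def, Polynomial.eval₂_eq_eval_map]
      show Polynomial.eval x (q'.map ι) = 0
      rw [hq', ← Polynomial.eval₂_eq_eval_map, ← Polynomial.aeval_def, hqx]
  obtain ⟨E, hE, -⟩ := exists_algebraic_realization (R := R1) (K := K) (id : K → K)
    (top_le_iff.1 fun x _ => Algebra.subset_adjoin ⟨x, rfl⟩)
  letI : Algebra R E.B := ((algebraMap R1 E.B).comp (algebraMap R R1)).toAlgebra
  haveI : IsScalarTower R R1 E.B := IsScalarTower.of_algebraMap_eq' rfl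
  refine ⟨{ B := E.B
            flat := ?_
            map_max := ?_
            ψ := E.ψ
            surj := E.surj
            ker := E.ker
            comm := fun r => ?_ }, fun hR => hE (isNoetherianRing_polyLoc R T)⟩
  · haveI := E.flat
    exact Module.Flat.trans R R1 E.B
  · rw [RingHom.algebraMap_toAlgebra, ← Ideal.map_map, polyLoc_map_max, E.map_max]
  · rw [IsScalarTower.algebraMap_apply R R1 E.B, E.comm]
    exact hcommR r

end Groth.Agent.CAlgResExt
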