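import Mathlib
import Groth.Agent.CAlgResExt.Transcendental

/-!
Consequences of a realization.
-/

namespace Groth.Agent.CAlgResExt

open IsLocalRing

universe u

namespace Realization

variable {R : Type u} [CommRing R] [IsLocalRing R] {K : Type u} [Field K]
  [Algebra (ResidueField R) K] (E : Realization R K)

theorem isLocalHom : IsLocalHom (algebraMap R E.B) :=
  ((IsLocalRing.local_hom_TFAE (algebraMap R E.B)).out 0 2).2 E.map_max.le

/-- `B / mB ≅ K`. -/
noncomputable def quotEquiv :
    (E.B ⧸ (maximalIdeal R).map (algebraMap R E.B)) ≃+* K :=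
  (Ideal.quotEquivOfEq (E.map_max.trans E.ker.symm)).trans
    (RingHom.quotientKerEquivOfSurjective E.surj)

theorem quotEquiv_algebraMap (r : R) :
    E.quotEquiv (Ideal.Quotient.mk _ (algebraMap R E.B r)) =
      algebraMap (ResidueField R) K (residue R r) := by
  rw [← E.comm]
  rfl

theorem residueField_equiv [IsLocalHom (algebraMap R E.B)] :
    Nonempty (ResidueField E.B ≃ₐ[ResidueField R] K) := by
  let e : ResidueField E.B ≃+* K :=
    (Ideal.quotEquivOfEq E.ker.symm).trans (RingHom.quotientKerEquivOfSurjective E.surj)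
  refine ⟨AlgEquiv.ofRingEquiv (f := e) fun c => ?_⟩
  obtain ⟨r, rfl⟩ := residue_surjective c
  rw [← E.comm]
  rfl

end Realization

end Groth.Agent.CAlgResExt
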