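import Mathlib

/-!
Finite free extensions realizing a finite extension of a residue field.
-/

namespace Groth.Agent.CAlgResExt

open Polynomial

universe u

theorem exists_finite_free_adjoin {R L : Type u} [CommRing R] [Field L] (χ : R →+* L)
    (s : Finset L) (hs : ∀ x ∈ s, IsIntegral (Subfield.closure (Set.range χ)) x) :
    ∃ (S : Type u) (_ : CommRing S) (_ : Algebra R S) (_ : Module.Finite R S) (_ : Module.Free R S)
      (ψ : S →+* L), ψ.comp (algebraMap R S) = χ ∧
      RingHom.ker ψ = (RingHom.ker χ).map (algebraMap R S) ∧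
      (∀ x ∈ s, x ∈ Subfield.closure (Set.range ψ)) := by
  classical
  induction s using Finset.induction with
  | empty => exact ⟨R, inferInstance, Algebra.id R, inferInstance, inferInstance, χ, rfl,
      (Ideal.map_id _).symm, by simp⟩
  | @insert x s hxs ih =>
    obtain ⟨S, _, _, _, _, ψ, hψ, hker, hsS⟩ := ih fun y hy => hs y (Finset.mem_insert_of_mem hy)
    let F := Subfield.closure (Set.range ψ)
    have hle : Subfield.closure (Set.range χ) ≤ F := Subfield.closure_mono fun z hz => by
      obtain ⟨r, rfl⟩ := hz
      exact ⟨algebraMap R S r, RingHom.congr_fun hψ r⟩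
    have hx : IsIntegral F x := by
      obtain ⟨q, hq, hqx⟩ := hs x (Finset.mem_insert_self x s)
      exact ⟨q.map (Subfield.inclusion hle), hq.map _, by rw [eval₂_map]; exact hqx⟩
    set P := minpoly F x with hP
    have hcoe : ∀ z : F, ∃ a b : S, ψ b ≠ 0 ∧ (z : L) * ψ b = ψ a := fun z => by
      obtain ⟨a, ha, b, hb, hab⟩ := Subfield.mem_closure_iff.1 z.2
      rw [← RingHom.coe_range, Subring.closure_eq] at ha hb
      obtain ⟨a, rfl⟩ := ha
      obtain ⟨b, rfl⟩ := hb
      by_cases hb0 : ψ b = 0
      · exact ⟨0, 1, by simp, by rw [← hab, hb0]; simp⟩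
      · exact ⟨a, b, hb0, by rw [← hab, div_mul_cancel₀ _ hb0]⟩
    choose a b hb hab using fun i => hcoe (P.coeff i)
    let B : S := ∏ i ∈ Finset.range P.natDegree, b i
    have hB : ψ B ≠ 0 := by
      rw [map_prod]
      exact Finset.prod_ne_zero_iff.2 fun i _ => hb i
    let P' : L[X] := (P.map (algebraMap F L)).scaleRoots (ψ B)
    have hPmon : (P.map (algebraMap F L)).Monic := (minpoly.monic hx).map _
    have hdeg : (P.map (algebraMap F L)).natDegree = P.natDegree := (minpoly.monic hx).natDegree_map _
    have hlifts : P' ∈ lifts ψ := (lifts_iff_coeff_lifts _).2 fun i => by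
      rw [coeff_scaleRoots, hdeg, coeff_map]
      rcases lt_trichotomy i P.natDegree with h | rfl | h
      · refine ⟨a i * (∏ j ∈ (Finset.range P.natDegree).erase i, b j) * B ^ (P.natDegree - i - 1), ?_⟩
        have hB' : ψ B = ψ (b i) * ψ (∏ j ∈ (Finset.range P.natDegree).erase i, b j) := by
          rw [← map_mul, Finset.mul_prod_erase _ _ (Finset.mem_range.2 h)]
        obtain ⟨m, hm⟩ : ∃ m, P.natDegree - i = m + 1 := ⟨P.natDegree - i - 1, by omega⟩
        rw [hm, Nat.add_sub_cancel, pow_succ, hB', map_mul, map_mul, map_pow, ← hab, hB']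
        show (P.coeff i : L) * ψ (b i) * _ * _ = (P.coeff i : L) * _
        ring
      · exact ⟨1, by rw [(minpoly.monic hx).coeff_natDegree]; simp⟩
      · exact ⟨0, by rw [coeff_eq_zero_of_natDegree_lt h]; simp⟩
    obtain ⟨G, hGP, hGdeg, hGmon⟩ := lifts_and_natDegree_eq_and_monic hlifts
      (by rw [Monic, leadingCoeff, natDegree_scaleRoots, coeff_scaleRoots_natDegree]; exact hPmon)
    have hGd : G.natDegree = P.natDegree := by rw [hGdeg, natDegree_scaleRoots, hdeg]
    let x' := ψ B * x
    have hroot : G.eval₂ ψ x' = 0 := by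
      rw [eval₂_eq_eval_map, hGP]
      have h := scaleRoots_aeval_eq_zero (p := P.map (algebraMap F L)) (a := x) (r := ψ B)
        (by rw [aeval_def, eval₂_map, Algebra.algebraMap_self, RingHom.id_comp, ← aeval_def, hP,
          minpoly.aeval])
      simpa [aeval_def, Algebra.algebraMap_self] using h
    haveI : Module.Finite S (AdjoinRoot G) := hGmon.finite_adjoinRoot
    haveI : Module.Free S (AdjoinRoot G) := hGmon.free_adjoinRoot
    haveI : IsScalarTower R S (AdjoinRoot G) := inferInstance
    haveI : Module.Finite R (AdjoinRoot G) := Module.Finite.trans S _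
    haveI : Module.Free R (AdjoinRoot G) := Module.Free.trans (S := S)
    let ψ' : AdjoinRoot G →+* L := AdjoinRoot.lift ψ x' hroot
    have hψ' : ∀ t : S, ψ' (algebraMap S (AdjoinRoot G) t) = ψ t := fun t => AdjoinRoot.lift_of _
    refine ⟨AdjoinRoot G, inferInstance, inferInstance, inferInstance, inferInstance, ψ',
      ?_, le_antisymm ?_ ?_, ?_⟩
    · ext r
      rw [RingHom.comp_apply, IsScalarTower.algebraMap_apply R S (AdjoinRoot G), hψ']
      exact RingHom.congr_fun hψ r
    · intro z hz
      obtain ⟨g, rfl⟩ := AdjoinRoot.mk_surjective z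
      rw [← AdjoinRoot.mk_leftInverse hGmon (AdjoinRoot.mk G g), AdjoinRoot.modByMonicHom_mk] at hz ⊢
      rw [RingHom.mem_ker, AdjoinRoot.lift_mk] at hz
      set g₁ := g %ₘ G
      let ψF : S →+* F := ψ.codRestrict F fun t => Subfield.subset_closure ⟨t, rfl⟩
      have hg1 : g₁.map ψ = 0 := by
        by_contra hne
        let BF : F := ψF B
        let h₁ : F[X] := (g₁.map ψF).comp (C BF * X)
        have h0 : aeval x h₁ = 0 := by
          rw [aeval_comp, aeval_def, eval₂_map, map_mul, aeval_C, aeval_X]
          exact hz
        have hBF : BF ≠ 0 := fun h => hB (congrArg Subtype.val h)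
        have hdlt : h₁.natDegree < P.natDegree := by
          rw [natDegree_comp, natDegree_C_mul_X _ hBF, mul_one]
          refine natDegree_map_le.trans_lt ?_
          rw [← hGd]
          exact natDegree_modByMonic_lt g hGmon (fun h => by
            have := minpoly.natDegree_pos hx
            rw [← hP, ← hGd, h, natDegree_one] at this
            omega)
        have h10 : h₁ = 0 := by
          by_contra h
          exact absurd (natDegree_le_natDegree (minpoly.degree_le_of_ne_zero F x h h0)) (not_le.2 hdlt)
        rcases comp_eq_zero_iff.1 h10 with h | ⟨-, h⟩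
        · refine hne ?_
          have : g₁.map ψ = (g₁.map ψF).map (algebraMap F L) := by
            rw [map_map]; rfl
          rw [this, h, Polynomial.map_zero]
        · have := congrArg natDegree h
          rw [natDegree_C_mul_X _ hBF, natDegree_C] at this
          exact one_ne_zero this
      have hmem : g₁ ∈ (RingHom.ker ψ).map (Polynomial.C) := by
        rw [Ideal.mem_map_C_iff]
        intro i
        rw [RingHom.mem_ker, ← coeff_map, hg1, coeff_zero]
      have := Ideal.mem_map_of_mem (AdjoinRoot.mk G) hmem
      rw [Ideal.map_map, hker, Ideal.map_map] at this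
      rw [IsScalarTower.algebraMap_eq R S (AdjoinRoot G)]
      exact this
    · rw [Ideal.map_le_iff_le_comap]
      intro r hr
      rw [Ideal.mem_comap, RingHom.mem_ker, IsScalarTower.algebraMap_apply R S (AdjoinRoot G), hψ',
        ← RingHom.comp_apply, hψ]
      exact hr
    · have hmono : F ≤ Subfield.closure (Set.range ψ') := Subfield.closure_mono fun z hz => by
        obtain ⟨t, rfl⟩ := hz
        exact ⟨_, hψ' t⟩
      intro y hy
      rcases Finset.mem_insert.1 hy with rfl | hy
      · have h1 : x' ∈ Subfield.closure (Set.range ψ') :=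
          Subfield.subset_closure ⟨AdjoinRoot.root G, AdjoinRoot.lift_root _⟩
        have h2 : ψ B ∈ Subfield.closure (Set.range ψ') := hmono (Subfield.subset_closure ⟨B, rfl⟩)
        simpa [x', hB] using mul_mem (inv_mem h2) h1
      · exact hmono (hsS y hy)

end Groth.Agent.CAlgResExt
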